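import Mathlib
import Cfsg.Agent.Lib.GoldschmidtFusion
import Cfsg.Agent.SylowG2.Coord

/-!
# Type `G₂(q)`: the quaternion subgroups `Q1`, `Q2` are strongly closed in the centralizer of `t`
-/

set_option autoImplicit false

namespace Cfsg.Agent.SylowG2.Closed

open Subgroup Cfsg.Agent.SylowG2.Coord Cfsg.Agent.Lib.GoldschmidtFusion

/-- A subgroup of odd index which contains all elements of odd order is the whole group. -/
theorem eq_top_of_odd_mem {N : Type*} [Group N] [Finite N] (H : Subgroup N) (hH : Odd H.index)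
    (h : ∀ g : N, Odd (orderOf g) → g ∈ H) : H = ⊤ := by
  let K : Subgroup N := closure {g : N | Odd (orderOf g)}
  have hK : K.Normal := by
    refine ⟨fun n hn g => ?_⟩
    have : K.map (MulAut.conj g).toMonoidHom ≤ K := by
      rw [MonoidHom.map_closure, closure_le]
      rintro _ ⟨x, hx, rfl⟩
      refine subset_closure ?_
      change Odd (orderOf (MulAut.conj g x))
      rw [MulEquiv.orderOf_eq]
      exact hx
    exact this ⟨n, hn, by simp⟩
  have hKH : K ≤ H := (closure_le _).2 fun g hg => h g hg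
  have hp : IsPGroup 2 (N ⧸ K) := by
    intro q
    induction q using QuotientGroup.induction_on with
    | H g =>
      obtain ⟨k, b, hb, hg⟩ := Nat.exists_eq_two_pow_mul_odd (orderOf_pos g).ne'
      refine ⟨k, ?_⟩
      rw [← QuotientGroup.mk_pow, QuotientGroup.eq_one_iff]
      refine subset_closure ?_
      change Odd (orderOf (g ^ 2 ^ k))
      rw [orderOf_pow' g (by positivity), hg, Nat.gcd_mul_right_left, Nat.mul_div_cancel_left _ (by positivity)]
      exact hb
  obtain ⟨n, hn⟩ := hp.exists_card_eq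
  have h1 : H.index ∣ 2 ^ n := by
    rw [← hn]
    exact Subgroup.index_dvd_of_le hKH
  obtain ⟨j, -, hj⟩ := (Nat.dvd_prime_pow Nat.prime_two).1 h1
  rw [hj] at hH
  rcases Nat.eq_zero_or_pos j with rfl | hj0
  · rw [pow_zero] at hj
    exact Subgroup.index_eq_one.1 hj
  · exact absurd hH (Nat.not_odd_iff_even.2 ((Nat.even_pow.2 ⟨even_two, hj0.ne'⟩)))

section

variable {G : Type*} [Group G] {S : Subgroup G} {m : ℕ} {v : ZMod (2 ^ m) → ZMod (2 ^ m) → G} {r s : G}

/-- commuting elements of `Q1` with square `t` are equal or inverse -/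
theorem eq_or_eq_inv (h : TG2 S m v r s) {x y : G} (hx : x ∈ h.Q1) (hy : y ∈ h.Q1)
    (hx2 : x * x = v (half m) (half m)) (hy2 : y * y = v (half m) (half m)) (hc : x * y = y * x) :
    y = x ∨ y = x⁻¹ := by
  have h2 := half_add_half h.m_pos
  have h4 := quarter_add_quarter h.hm
  have hne := half_ne_zero h.m_pos
  rcases hx with ⟨i, rfl⟩ | ⟨i, rfl⟩
  · rcases hy with ⟨j, rfl⟩ | ⟨j, rfl⟩
    · rw [h.sq_v] at hx2 hy2
      have hi := (h.v_eq hx2).1
      have hj := (h.v_eq hy2).1
      have h5 : (j - i) + (j - i) = 0 := by linear_combination hj - hi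
      rcases eq_of_add_self h.m_pos h5 with h6 | h6
      · left
        exact h.v_congr (by linear_combination h6) (by linear_combination -h6)
      · right
        rw [h.v_inv]
        exact h.v_congr (by linear_combination h6 + hi + h2) (by linear_combination -h6 - hi - h2)
    · exfalso
      have h5 := h.comm_vr hc.symm
      rw [h.sq_v] at hx2
      have h6 := (h.v_eq hx2).1
      exact hne (by linear_combination -h6 + h5)
  · rcases hy with ⟨j, rfl⟩ | ⟨j, rfl⟩
    · exfalso
      have h5 := h.comm_vr hc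
      rw [h.sq_v] at hy2
      have h6 := (h.v_eq hy2).1
      exact hne (by linear_combination -h6 + h5)
    · have e : ∀ i j : ZMod (2 ^ m), (v (i + half m) (-i) * r) * (v (j + half m) (-j) * r) =
          v (i + half m - j) (j - i + half m) := by
        intro i j
        rw [mul_assoc, ← mul_assoc r, h.r_v, mul_assoc (v (-j) _), h.r_r, mul_one, h.v_mul]
        exact h.v_congr (by ring) (by ring)
      rw [e, e] at hc
      have h5 := (h.v_eq hc).1
      have h6 : (j - i) + (j - i) = 0 := by linear_combination -h5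
      rcases eq_of_add_self h.m_pos h6 with h7 | h7
      · left
        rw [h.v_congr (show j + half m = i + half m by linear_combination h7) (show -j = -i by linear_combination -h7)]
      · right
        rw [mul_inv_rev, h.v_inv, h.r_inv, h.r_v]
        rw [h.v_congr (show j + half m = - -i by linear_combination h7 + h2)
          (show -j = -(i + half m) by linear_combination -h7)]

theorem eq_or_eq_inv' (h : TG2 S m v r s) {x y : G} (hx : x ∈ h.Q2) (hy : y ∈ h.Q2)
    (hx2 : x * x = v (half m) (half m)) (hy2 : y * y = v (half m) (half m)) (hc : x * y = y * x) :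
    y = x ∨ y = x⁻¹ := by
  refine eq_or_eq_inv h.symm hx hy ?_ ?_ hc
  · simpa [h.neg_half] using hx2
  · simpa [h.neg_half] using hy2

/-- `[Q1, Q2] = 1` -/
theorem comm_Q1_Q2 (h : TG2 S m v r s) {x y : G} (hx : x ∈ h.Q1) (hy : y ∈ h.Q2) : x * y = y * x := by
  have h2 := half_add_half h.m_pos
  rcases hx with ⟨i, rfl⟩ | ⟨i, rfl⟩
  · rcases h.mem_Q2.1 hy with ⟨j, rfl⟩ | ⟨j, rfl⟩
    · exact h.v_comm _ _ _ _
    · rw [mul_assoc, h.rs_v, ← mul_assoc (v i (-i)), h.v_mul, ← mul_assoc (v (j + half m) j), h.v_mul]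
      rw [h.v_congr (show i + (j + half m) = j + half m + - -i by ring) (show -i + j = j + -i by ring)]
  · rcases h.mem_Q2.1 hy with ⟨j, rfl⟩ | ⟨j, rfl⟩
    · rw [mul_assoc, h.r_v, ← mul_assoc, ← mul_assoc, h.v_comm]
    · have e1 : v (i + half m) (-i) * r * (v (j + half m) j * (r * s)) = v (i + half m + j) (-i + (j + half m)) * s := by
        rw [mul_assoc, ← mul_assoc r, h.r_v, mul_assoc (v j _), ← mul_assoc r r s, h.r_r, one_mul, ← mul_assoc,
          h.v_mul]
      have e2 : v (j + half m) j * (r * s) * (v (i + half m) (-i) * r) =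
          v (j + half m + - -i) (j + -(i + half m)) * s := by
        rw [mul_assoc, ← mul_assoc (r * s), h.rs_v, mul_assoc (v (- -i) _), h.r_s, mul_assoc s, h.r_r, mul_one,
          ← mul_assoc, h.v_mul]
      rw [e1, e2]
      rw [h.v_congr (show i + half m + j = j + half m + - -i by ring)
        (show -i + (j + half m) = j + -(i + half m) by linear_combination h2)]

theorem not_mem_both (h : TG2 S m v r s) {x : G} (hx : x ∈ h.Q1) (hx' : x ∈ h.Q2)
    (hx2 : x * x = v (half m) (half m)) : False := by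
  rcases h.eq_of_mem_inf hx hx' with rfl | rfl
  · rw [one_mul] at hx2
    exact h.t_ne_one hx2.symm
  · rw [h.t_sq] at hx2
    exact h.t_ne_one hx2.symm

end

theorem mem_zpowers_sq {G : Type*} [Group G] {g : G} (ho : Odd (orderOf g)) : ∃ k : ℕ, (g ^ 2) ^ k = g := by
  obtain ⟨n, hn⟩ := ho
  refine ⟨n + 1, ?_⟩
  rw [← pow_mul, show 2 * (n + 1) = orderOf g + 1 by omega, pow_succ, pow_orderOf_eq_one, one_mul]

/-- an element of odd order cannot induce an involutory action -/
theorem fix_of_fix_sq {G : Type*} [Group G] {g w : G} (ho : Odd (orderOf g)) (h : g * (g * w * g⁻¹) * g⁻¹ = w) :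
    g * w * g⁻¹ = w := by
  obtain ⟨k, hk⟩ := mem_zpowers_sq ho
  have h1 : Commute (g ^ 2) w := by
    have h3 : g ^ 2 * w * (g ^ 2)⁻¹ = w := by
      calc g ^ 2 * w * (g ^ 2)⁻¹ = g * (g * w * g⁻¹) * g⁻¹ := by
            rw [sq, mul_inv_rev]; simp only [mul_assoc]
        _ = w := h
    exact mul_inv_eq_iff_eq_mul.1 h3
  have h2 : Commute g w := by rw [← hk]; exact h1.pow_left k
  rw [h2.eq, mul_inv_cancel_right]

/-- `g x g⁻¹ = x w` with `w` an involution commuting with `g` and `x`, `g` of odd order, forces `w = 1` -/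
theorem eq_one_of_shift {G : Type*} [Group G] {g x w : G} (ho : Odd (orderOf g)) (h : g * x * g⁻¹ = x * w)
    (hw : g * w * g⁻¹ = w) (hw2 : w * w = 1) : w = 1 := by
  have hk : ∀ k : ℕ, g ^ k * x * (g ^ k)⁻¹ = x * w ^ k := by
    intro k
    induction k with
    | zero => simp
    | succ k ih =>
      have e : g ^ (k + 1) * x * (g ^ (k + 1))⁻¹ = g * (g ^ k * x * (g ^ k)⁻¹) * g⁻¹ := by
        rw [pow_succ']; group
      have hwk : g * w ^ k * g⁻¹ = w ^ k := by rw [← conj_pow, hw]
      rw [e, ih]
      calc g * (x * w ^ k) * g⁻¹ = (g * x * g⁻¹) * (g * w ^ k * g⁻¹) := by group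
        _ = x * w * w ^ k := by rw [h, hwk]
        _ = x * w ^ (k + 1) := by rw [pow_succ', mul_assoc]
  have h1 := hk (orderOf g)
  rw [pow_orderOf_eq_one, inv_one, mul_one, one_mul] at h1
  obtain ⟨n, hn⟩ := ho
  rw [hn, pow_succ, pow_mul, sq, hw2, one_pow, one_mul] at h1
  exact (mul_eq_left.1 h1.symm)

section

variable {G : Type*} [Group G] {P : Subgroup G} {m : ℕ} {v : ZMod (2 ^ m) → ZMod (2 ^ m) → G} {r s : G}

/-- an element of odd order normalizing `X ≤ S` preserves the set of elements of `X ∩ Q1` with square `t` -/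
theorem key_one (h : TG2 P m v r s) (hZ : ∀ g : G, g * v (half m) (half m) = v (half m) (half m) * g)
    {X : Subgroup G} (hX : X ≤ P) {g : G} (hg : g ∈ normalizer (X : Set G)) (ho : Odd (orderOf g)) {x : G}
    (hx : x ∈ X) (hx1 : x ∈ h.Q1) (hx2 : x * x = v (half m) (half m)) : g * x * g⁻¹ ∈ h.Q1 := by
  let a : ℕ → G := fun k => g ^ k * x * (g ^ k)⁻¹
  have ha0 : a 0 = x := by simp [a]
  have ha1 : a 1 = g * x * g⁻¹ := by simp [a]
  have has : ∀ k, a (k + 1) = g * a k * g⁻¹ := by
    intro k
    simp only [a, pow_succ']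
    group
  have haX : ∀ k, a k ∈ X := by
    intro k
    exact (mem_normalizer_iff.1 (pow_mem hg k) x).1 hx
  have haS : ∀ k, a k ∈ P := fun k => hX (haX k)
  have ha2 : ∀ k, a k * a k = v (half m) (half m) := by
    intro k
    have : a k * a k = g ^ k * (x * x) * (g ^ k)⁻¹ := by simp only [a]; group
    rw [this, hx2, hZ, mul_inv_cancel_right]
  have hcomm : ∀ k, a k * a (k + 1) = a (k + 1) * a k → a (k + 1) * a (k + 2) = a (k + 2) * a (k + 1) := by
    intro k hk
    rw [has (k + 1)]
    nth_rw 1 [has k]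
    nth_rw 3 [has k]
    have : g * (a k * a (k + 1)) * g⁻¹ = g * (a (k + 1) * a k) * g⁻¹ := by rw [hk]
    calc g * a k * g⁻¹ * (g * a (k + 1) * g⁻¹) = g * (a k * a (k + 1)) * g⁻¹ := by group
      _ = g * (a (k + 1) * a k) * g⁻¹ := this
      _ = g * a (k + 1) * g⁻¹ * (g * a k * g⁻¹) := by group
  have hback : ∀ k, (a (k + 1) = a k ∨ a (k + 1) = (a k)⁻¹) → (a 1 = a 0 ∨ a 1 = (a 0)⁻¹) := by
    intro k hk
    have e1 : a (k + 1) = g ^ k * a 1 * (g ^ k)⁻¹ := by
      simp only [a, pow_succ, pow_zero, one_mul]; group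
    have e0 : a k = g ^ k * a 0 * (g ^ k)⁻¹ := by simp only [a]; group
    rcases hk with hk | hk
    · left
      rw [e1, e0] at hk
      exact mul_left_cancel (mul_right_cancel hk)
    · right
      rw [e1, e0] at hk
      have : (g ^ k * a 0 * (g ^ k)⁻¹)⁻¹ = g ^ k * (a 0)⁻¹ * (g ^ k)⁻¹ := by group
      rw [this] at hk
      exact mul_left_cancel (mul_right_cancel hk)
  rcases h.mem_or_of_sq (haS 1) (ha2 1) with h1 | h1
  · rwa [ha1] at h1
  exfalso
  have hno : ¬ (a 1 = a 0 ∨ a 1 = (a 0)⁻¹) := by
    intro hc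
    refine not_mem_both h ?_ h1 (ha2 1)
    rcases hc with hc | hc
    · rw [hc, ha0]; exact hx1
    · rw [hc, ha0]; exact inv_mem hx1
  have halt : ∀ j, (a (2 * j) ∈ h.Q1 ∧ a (2 * j + 1) ∈ h.Q2) := by
    intro j
    induction j with
    | zero => exact ⟨by rw [mul_zero, ha0]; exact hx1, h1⟩
    | succ j ih =>
      obtain ⟨h3, h4⟩ := ih
      have h5 : a (2 * j + 2) ∈ h.Q1 := by
        rcases h.mem_or_of_sq (haS (2 * j + 2)) (ha2 _) with h6 | h6
        · exact h6
        · exfalso
          have hc := hcomm (2 * j) (comm_Q1_Q2 h h3 h4)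
          exact hno (hback (2 * j + 1) (eq_or_eq_inv' h h4 h6 (ha2 _) (ha2 _) hc))
      refine ⟨h5, ?_⟩
      change a (2 * j + 2 + 1) ∈ h.Q2
      rcases h.mem_or_of_sq (haS (2 * j + 2 + 1)) (ha2 _) with h6 | h6
      · exfalso
        have hc := hcomm (2 * j + 1) (comm_Q1_Q2 h h5 h4).symm
        exact hno (hback (2 * j + 2) (eq_or_eq_inv h h5 h6 (ha2 _) (ha2 _) hc))
      · exact h6
  obtain ⟨n, hn⟩ := ho
  have h7 := (halt n).2
  have h8 : a (2 * n + 1) = x := by
    simp only [a]
    rw [← hn, pow_orderOf_eq_one]; simp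
  rw [h8] at h7
  exact not_mem_both h hx1 h7 hx2





theorem eq_or_eq_mul_t (h : TG2 P m v r s) {q : ZMod (2 ^ m)} (hq : q + q = half m) {w w' : G} (hw : w ∈ P)
    (hw' : w' ∈ P) (hwq : w * v q (-q) = v q (-q) * w) (hwq' : w' * v q (-q) = v q (-q) * w')
    (hww : w * w' = w' * w) (h1 : w * w = 1) (h1' : w' * w' = 1) (hn : w ≠ 1) (hnt : w ≠ v (half m) (half m))
    (hn' : w' ≠ 1) (hnt' : w' ≠ v (half m) (half m)) : w' = w ∨ w' = w * v (half m) (half m) := by
  have h2 := half_add_half h.m_pos
  have hne := half_ne_zero h.m_pos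
  -- the shape of elements commuting with `v q (-q)`
  have hshape : ∀ w ∈ P, w * v q (-q) = v q (-q) * w → ∃ k l, w = v k l ∨ w = v k l * (r * s) := by
    intro w hw hc
    obtain ⟨k, l, rfl | rfl | rfl | rfl⟩ := h.cases w hw
    · exact ⟨k, l, Or.inl rfl⟩
    · exfalso
      have := h.comm_vr hc
      exact hne (by linear_combination -hq + this)
    · exfalso
      have := (h.comm_vs hc).1
      exact hne (by linear_combination -hq + this)
    · exact ⟨k, l, Or.inr rfl⟩
  have hA : ∀ k l, v k l * v k l = 1 → v k l ≠ 1 → v k l ≠ v (half m) (half m) →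
      (k = 0 ∧ l = half m) ∨ (k = half m ∧ l = 0) := by
    intro k l h5 h6 h7
    obtain ⟨h8 | h8, h9 | h9⟩ := h.v_sq_one h5
    · exact absurd (by rw [h8, h9, h.v_zero]) h6
    · exact Or.inl ⟨h8, h9⟩
    · exact Or.inr ⟨h8, h9⟩
    · exact absurd (by rw [h8, h9]) h7
  have hmix : ∀ k l k' l', v k l * v k l = 1 → v k l ≠ 1 → v k l ≠ v (half m) (half m) →
      (v k' l' * (r * s)) * v k l = v k l * (v k' l' * (r * s)) → False := by
    intro k l k' l' h5 h6 h7 h8
    have h9 := h.comm_vrs h8
    rcases hA k l h5 h6 h7 with ⟨rfl, rfl⟩ | ⟨rfl, rfl⟩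
    · exact hne (by linear_combination h9)
    · exact hne (by linear_combination h9)
  obtain ⟨k, l, rfl | rfl⟩ := hshape w hw hwq
  · obtain ⟨k', l', rfl | rfl⟩ := hshape w' hw' hwq'
    · rcases hA k l h1 hn hnt with ⟨rfl, rfl⟩ | ⟨rfl, rfl⟩ <;> rcases hA k' l' h1' hn' hnt' with ⟨rfl, rfl⟩ | ⟨rfl, rfl⟩
      · left; rfl
      · right; rw [h.v_mul, zero_add, h2]
      · right; rw [h.v_mul, zero_add, h2]
      · left; rfl
    · exact (hmix k l k' l' h1 hn hnt hww.symm).elim
  · obtain ⟨k', l', rfl | rfl⟩ := hshape w' hw' hwq'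
    · exact (hmix k' l' k l h1' hn' hnt' hww).elim
    · rw [h.sq_vrs] at h1 h1'
      have h5 := (h.v_inj _ _ h1).1
      have h6 := (h.v_inj _ _ h1').1
      have e : ∀ k l k' l' : ZMod (2 ^ m), (v k l * (r * s)) * (v k' l' * (r * s)) = v (k - l') (l - k') := by
        intro k l k' l'
        rw [mul_assoc, ← mul_assoc (r * s), h.rs_v, mul_assoc (v (-l') _), h.rs_rs, mul_one, h.v_mul]
        exact h.v_congr (by ring) (by ring)
      rw [e, e] at hww
      have h7 := (h.v_eq hww).1
      have h8 : (k' - k) + (k' - k) = 0 := by linear_combination -h7 - h5 + h6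
      rcases eq_of_add_self h.m_pos h8 with h9 | h9
      · left
        rw [h.v_congr (show k' = k by linear_combination h9) (show l' = l by linear_combination h9 + h5 - h6)]
      · right
        rw [mul_assoc (v k l), h.rs_v, h.neg_half, ← mul_assoc (v k l), h.v_mul]
        rw [h.v_congr (show k' = k + half m by linear_combination h9)
          (show l' = l + half m by linear_combination h9 + h5 - h6)]

/-- an element of odd order normalizing `X ≤ S`, `t ∈ X`, preserves `X ∩ Q1` -/
theorem key_two (h : TG2 P m v r s) (hZ : ∀ g : G, g * v (half m) (half m) = v (half m) (half m) * g)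
    {X : Subgroup G} (hX : X ≤ P) {g : G} (hg : g ∈ normalizer (X : Set G)) (ho : Odd (orderOf g)) {x : G}
    (hx : x ∈ X) (hx1 : x ∈ h.Q1) : g * x * g⁻¹ ∈ h.Q1 := by
  have h2 := half_add_half h.m_pos
  have h4 := quarter_add_quarter h.hm
  have hsq : ∀ i, (v (i + half m) (-i) * r) * (v (i + half m) (-i) * r) = v (half m) (half m) := by
    intro i
    rw [h.sq_vr]
    exact h.v_congr (by ring) (by ring)
  rcases hx1 with ⟨i, rfl⟩ | ⟨i, rfl⟩
  swap
  · exact key_one h hZ hX hg ho hx (Or.inr ⟨i, rfl⟩) (hsq i)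
  by_cases hc : ∃ j, v (j + half m) (-j) * r ∈ X
  · obtain ⟨j, hj⟩ := hc
    have e : v (j + half m) (-j) * r * v i (-i) = v ((j - i) + half m) (-(j - i)) * r := by
      rw [mul_assoc, h.r_v, ← mul_assoc, h.v_mul]
      rw [h.v_congr (show j + half m + -i = j - i + half m by ring) (show -j + i = -(j - i) by ring)]
    have h5 := key_one h hZ hX hg ho hj (Or.inr ⟨j, rfl⟩) (hsq j)
    have h6 := key_one h hZ hX hg ho (mul_mem hj hx) (Or.inr ⟨j - i, e⟩) (by rw [e]; exact hsq _)
    have h7 : g * v i (-i) * g⁻¹ = (g * (v (j + half m) (-j) * r) * g⁻¹)⁻¹ *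
        (g * (v (j + half m) (-j) * r * v i (-i)) * g⁻¹) := by group
    rw [h7]
    exact mul_mem (inv_mem h5) h6
  -- now `X ∩ Q1 ≤ A`: `g` centralizes `X ∩ Q1`
  have hfix : ∀ n : ℕ, ∀ i : ZMod (2 ^ m), v i (-i) ∈ X → (2 : ZMod (2 ^ m)) ^ n * i = 0 →
      g * v i (-i) * g⁻¹ = v i (-i) := by
    intro n
    induction n with
    | zero =>
      intro i _ hi
      rw [pow_zero, one_mul] at hi
      rw [hi, neg_zero, h.v_zero]; group
    | succ n ih =>
      intro i hiX hi
      by_cases hi0 : (2 : ZMod (2 ^ m)) ^ n * i = 0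
      · exact ih i hiX hi0
      have hie : (2 : ZMod (2 ^ m)) ^ n * i = half m := by
        rcases eq_of_add_self h.m_pos (x := (2 : ZMod (2 ^ m)) ^ n * i)
          (by rw [pow_succ] at hi; linear_combination hi) with h5 | h5
        · exact absurd h5 hi0
        · exact h5
      rcases n with _ | n
      · rw [pow_zero, one_mul] at hie
        rw [hie, h.neg_half, hZ, mul_inv_cancel_right]
      rcases n with _ | n
      · -- order 4
        have hie' : i + i = half m := by linear_combination hie
        have hx2 : v i (-i) * v i (-i) = v (half m) (half m) := by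
          rw [h.v_mul]
          exact h.v_congr hie' (by rw [← h.neg_half]; linear_combination -hie')
        have h5 := key_one h hZ hX hg ho hiX (Or.inl ⟨i, rfl⟩) hx2
        have h5X := (mem_normalizer_iff.1 hg _).1 hiX
        have h5s : (g * v i (-i) * g⁻¹) * (g * v i (-i) * g⁻¹) = v (half m) (half m) := by
          have : (g * v i (-i) * g⁻¹) * (g * v i (-i) * g⁻¹) = g * (v i (-i) * v i (-i)) * g⁻¹ := by group
          rw [this, hx2, hZ, mul_inv_cancel_right]
        rcases h5 with ⟨j, hj⟩ | ⟨j, hj⟩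
        · have hcj : v i (-i) * (g * v i (-i) * g⁻¹) = (g * v i (-i) * g⁻¹) * v i (-i) := by
            rw [hj, h.v_comm]
          rcases eq_or_eq_inv h (Or.inl ⟨i, rfl⟩) (Or.inl ⟨j, hj⟩) hx2 h5s hcj with h6 | h6
          · exact h6
          · refine fix_of_fix_sq ho ?_
            rw [h6]
            have : g * (v i (-i))⁻¹ * g⁻¹ = (g * v i (-i) * g⁻¹)⁻¹ := by group
            rw [this, h6, inv_inv]
        · exact absurd ⟨j, by rw [← hj]; exact h5X⟩ hc
      · -- order at least 8
        obtain ⟨q, hq⟩ : ∃ q, q = (2 : ZMod (2 ^ m)) ^ (n + 1) * i := ⟨_, rfl⟩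
        have hpow : ∀ k : ℕ, (v i (-i)) ^ k = v (k * i) (-(k * i)) := by
          intro k
          induction k with
          | zero => simp [h.v_zero]
          | succ k ihk =>
            rw [pow_succ, ihk, h.v_mul]
            exact h.v_congr (by push_cast; ring) (by push_cast; ring)
        have hqq : q + q = half m := by rw [hq, ← hie]; ring
        have hqX : v q (-q) ∈ X := by
          have := pow_mem hiX (2 ^ (n + 1))
          rw [hpow] at this
          rw [hq]
          push_cast at this
          exact this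
        have hq2 : (2 : ZMod (2 ^ m)) ^ (n + 2) * q = 0 := by
          have : (2 : ZMod (2 ^ m)) ^ (n + 2) * q = 2 ^ (n + 1) * (q + q) := by ring
          rw [this, hqq, pow_succ]
          linear_combination (2 : ZMod (2 ^ m)) ^ n * h2
        have hgq := ih q hqX hq2
        have hg2 := ih (i + i) (by
          have := mul_mem hiX hiX
          rw [h.v_mul] at this
          rwa [h.v_congr (rfl : i + i = i + i) (show -(i + i) = -i + -i by ring)])
          (by linear_combination hi)
        -- `y = g x g⁻¹`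
        have hyX := (mem_normalizer_iff.1 hg _).1 hiX
        -- everything commuting with `v q (-q)` in `S` commutes with `x`
        have hcen : ∀ w ∈ X, w * v q (-q) = v q (-q) * w → w * v i (-i) = v i (-i) * w := by
          intro w hw hc
          obtain ⟨k, l, rfl | rfl | rfl | rfl⟩ := h.cases w (hX hw)
          · exact h.v_comm _ _ _ _
          · exfalso
            have := h.comm_vr hc
            exact half_ne_zero h.m_pos (by linear_combination -hqq + this)
          · exfalso
            have := (h.comm_vs hc).1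
            exact half_ne_zero h.m_pos (by linear_combination -hqq + this)
          · rw [mul_assoc, h.rs_v, ← mul_assoc, neg_neg, h.v_comm, mul_assoc]
        have hcen' : ∀ z, (∀ w ∈ X, w * v q (-q) = v q (-q) * w → w * z = z * w) →
            ∀ w ∈ X, w * v q (-q) = v q (-q) * w → w * (g * z * g⁻¹) = (g * z * g⁻¹) * w := by
          intro z hz w hw hc
          have h6 : g⁻¹ * w * g ∈ X := by
            have := (mem_normalizer_iff.1 (inv_mem hg) w).1 hw
            rwa [inv_inv] at this
          have h7 : (g⁻¹ * w * g) * v q (-q) = v q (-q) * (g⁻¹ * w * g) := by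
            have e1 : (g⁻¹ * w * g) * v q (-q) = g⁻¹ * (w * (g * v q (-q) * g⁻¹)) * g := by group
            have e2 : v q (-q) * (g⁻¹ * w * g) = g⁻¹ * ((g * v q (-q) * g⁻¹) * w) * g := by group
            rw [e1, e2, hgq, hc]
          have h8 := hz _ h6 h7
          have e1 : w * (g * z * g⁻¹) = g * ((g⁻¹ * w * g) * z) * g⁻¹ := by group
          have e2 : (g * z * g⁻¹) * w = g * (z * (g⁻¹ * w * g)) * g⁻¹ := by group
          rw [e1, e2, h8]
        have hxq : v i (-i) * v q (-q) = v q (-q) * v i (-i) := h.v_comm _ _ _ _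
        have hyc := hcen' _ hcen
        have hyq : (g * v i (-i) * g⁻¹) * v q (-q) = v q (-q) * (g * v i (-i) * g⁻¹) := by
          have := hyc (v q (-q)) hqX rfl
          exact this.symm
        obtain ⟨w, hw⟩ : ∃ w, w = (v i (-i))⁻¹ * (g * v i (-i) * g⁻¹) := ⟨_, rfl⟩
        have hwX : w ∈ X := by rw [hw]; exact mul_mem (inv_mem hiX) hyX
        have hcw : ∀ z ∈ X, z * v q (-q) = v q (-q) * z → z * w = w * z := by
          intro z hz hzc
          have h6 := hcen z hz hzc
          have h7 := hyc z hz hzc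
          rw [hw]
          have h6' : Commute z (v i (-i)) := h6
          have h7' : Commute z (g * v i (-i) * g⁻¹) := h7
          exact (h6'.inv_right.mul_right h7').eq
        have hwq : w * v q (-q) = v q (-q) * w := (hcw _ hqX rfl).symm
        have hxy : v i (-i) * (g * v i (-i) * g⁻¹) = (g * v i (-i) * g⁻¹) * v i (-i) := hyc _ hiX hxq
        have hww : w * w = 1 := by
          have h6 : Commute ((v i (-i))⁻¹) (g * v i (-i) * g⁻¹) := (show Commute _ _ from hxy).inv_left
          have h7 : (g * v i (-i) * g⁻¹) * (g * v i (-i) * g⁻¹) = v i (-i) * v i (-i) := by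
            have : (g * v i (-i) * g⁻¹) * (g * v i (-i) * g⁻¹) = g * (v i (-i) * v i (-i)) * g⁻¹ := by group
            rw [this, h.v_mul, ← neg_add, hg2]
          have h8 : w * w = (v i (-i))⁻¹ * (v i (-i))⁻¹ * ((g * v i (-i) * g⁻¹) * (g * v i (-i) * g⁻¹)) := by
            rw [hw, h6.mul_mul_mul_comm]
          rw [h8, h7]; group
        have hw'X : g * w * g⁻¹ ∈ X := (mem_normalizer_iff.1 hg _).1 hwX
        have hcw' := hcen' w hcw
        have hw'q : (g * w * g⁻¹) * v q (-q) = v q (-q) * (g * w * g⁻¹) := (hcw' _ hqX rfl).symm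
        have hw'w' : (g * w * g⁻¹) * (g * w * g⁻¹) = 1 := by
          have : (g * w * g⁻¹) * (g * w * g⁻¹) = g * (w * w) * g⁻¹ := by group
          rw [this, hww]; group
        have hgw : g * w * g⁻¹ = w := by
          by_cases hw1 : w = 1
          · rw [hw1]; group
          by_cases hwt : w = v (half m) (half m)
          · rw [hwt, hZ, mul_inv_cancel_right]
          have hn1 : g * w * g⁻¹ ≠ 1 := by
            intro hh
            apply hw1
            have := congrArg (fun z => g⁻¹ * z * g) hh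
            simpa [mul_assoc] using this
          have hnt : g * w * g⁻¹ ≠ v (half m) (half m) := by
            intro hh
            apply hwt
            have h6 : w = g⁻¹ * v (half m) (half m) * g := by rw [← hh]; group
            rw [h6, hZ, mul_assoc, inv_mul_cancel, mul_one]
          rcases eq_or_eq_mul_t h hqq (hX hwX) (hX hw'X) hwq hw'q (hcw' w hwX hwq) hww hw'w' hw1 hwt hn1 hnt with h6 | h6
          · exact h6
          · refine fix_of_fix_sq ho ?_
            rw [h6]
            have e1 : g * (w * v (half m) (half m)) * g⁻¹ = (g * w * g⁻¹) * (g * v (half m) (half m) * g⁻¹) := by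
              group
            rw [e1, h6, hZ g, mul_inv_cancel_right, mul_assoc, h.t_sq, mul_one]
        have hfin := eq_one_of_shift ho (x := v i (-i)) (w := w) (by rw [hw]; group) hgw hww
        rw [hfin] at hw
        have := (inv_mul_eq_one.1 hw.symm).symm
        exact this
  have hlast : (2 : ZMod (2 ^ m)) ^ m * i = 0 := by
    have : ((2 ^ m : ℕ) : ZMod (2 ^ m)) = 0 := ZMod.natCast_self _
    push_cast at this
    rw [this, zero_mul]
  rw [hfix m i hx hlast]
  exact Or.inl ⟨i, rfl⟩

end

section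

variable {G : Type*} [Group G] [Finite G] {P : Sylow 2 G} {m : ℕ} {v : ZMod (2 ^ m) → ZMod (2 ^ m) → G} {r s : G}

/-- `Q1` is strongly closed in `P` if `t` is central in `G`. -/
theorem strongly_closed (h : TG2 (P : Subgroup G) m v r s)
    (hZ : ∀ g : G, g * v (half m) (half m) = v (half m) (half m) * g) {x g : G} (hx : x ∈ h.Q1)
    (hg : g * x * g⁻¹ ∈ (P : Subgroup G)) : g * x * g⁻¹ ∈ h.Q1 := by
  let F : Subgroup G → Prop := fun X => v (half m) (half m) ∈ X ∧
    ¬ 2 ∣ ((P : Subgroup G) ⊓ normalizer (X : Set G)).relIndex (normalizer (X : Set G))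
  have htZ : ∀ X : Subgroup G, v (half m) (half m) ∈ centralizer (X : Set G) := by
    intro X
    rw [mem_centralizer_iff]
    intro y _
    exact hZ y
  have hP : F P := by
    refine ⟨h.v_mem _ _, ?_⟩
    rw [inf_eq_left.2 le_normalizer]
    intro hd
    exact P.not_dvd_index (hd.trans (relIndex_dvd_index_of_le le_normalizer))
  have hgen := gen_of_conj P F hP (fun X _ h1 h2 _ => ⟨h2 ⟨htZ X, h.v_mem _ _⟩, h1⟩)
    (A := zpowers x) ((zpowers_le).2 (h.Q1_le hx)) (g := g) (zpowers_map_conj_le hg)
  have hinv := hgen.invariant (fun y => y ∈ h.Q1) (by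
    rintro X hX ⟨htX, hXi⟩ n hn y hy
    -- the subgroup of `N_G(X)` preserving `X ∩ Q1`
    let N := normalizer (X : Set G)
    let H : Subgroup N :=
      { carrier := {n | ∀ y ∈ X, ((n : G) * y * (n : G)⁻¹ ∈ h.Q1 ↔ y ∈ h.Q1)}
        mul_mem' := by
          intro a b ha hb y hy
          have hby : (b : G) * y * (b : G)⁻¹ ∈ X := (mem_normalizer_iff.1 b.2 y).1 hy
          rw [← hb y hy, ← ha _ hby]
          have : ((a * b : N) : G) * y * ((a * b : N) : G)⁻¹ = (a : G) * ((b : G) * y * (b : G)⁻¹) * (a : G)⁻¹ := by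
            rw [Subgroup.coe_mul]; group
          rw [this]
        one_mem' := by intro y _; simp
        inv_mem' := by
          intro a ha y hy
          have hay : (a : G)⁻¹ * y * ((a : G)⁻¹)⁻¹ ∈ X := (mem_normalizer_iff.1 (inv_mem a.2) y).1 hy
          have h5 := ha _ hay
          have e : (a : G) * ((a : G)⁻¹ * y * ((a : G)⁻¹)⁻¹) * (a : G)⁻¹ = y := by group
          rw [e] at h5
          exact h5.symm }
    have hHodd : Odd H.index := by
      have h3 : ((P : Subgroup G) ⊓ N).subgroupOf N ≤ H := by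
        intro a ha y hy
        rw [mem_subgroupOf] at ha
        constructor
        · intro h5
          have := h.conj_mem_Q1 (inv_mem ha.1) h5
          have e : (a : G)⁻¹ * ((a : G) * y * (a : G)⁻¹) * ((a : G)⁻¹)⁻¹ = y := by group
          rwa [e] at this
        · intro h5
          exact h.conj_mem_Q1 ha.1 h5
      have h4 : H.index ∣ ((P : Subgroup G) ⊓ N).relIndex N := Subgroup.index_dvd_of_le h3
      have h5 : Odd (((P : Subgroup G) ⊓ N).relIndex N) := by
        rw [← Nat.not_even_iff_odd, even_iff_two_dvd]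
        exact hXi
      exact Odd.of_dvd_nat h5 h4
    have hHtop : H = ⊤ := by
      refine eq_top_of_odd_mem H hHodd ?_
      intro a ha y hy
      have ha' : Odd (orderOf (a : G)) := by rwa [Subgroup.orderOf_coe]
      constructor
      · intro h5
        have h6 : Odd (orderOf ((a : G)⁻¹)) := by rwa [orderOf_inv]
        have h7 := key_two h hZ hX (inv_mem a.2) h6 ((mem_normalizer_iff.1 a.2 y).1 hy) h5
        have e : (a : G)⁻¹ * ((a : G) * y * (a : G)⁻¹) * ((a : G)⁻¹)⁻¹ = y := by group
        rwa [e] at h7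
      · intro h5
        exact key_two h hZ hX a.2 ha' hy h5
    have hnH : (⟨n, hn⟩ : N) ∈ H := by rw [hHtop]; exact Subgroup.mem_top _
    exact propext (hnH y hy))
  have := hinv x (mem_zpowers x)
  simp only [eq_iff_iff] at this
  exact this.2 hx

/-- `Q2` is strongly closed in `P` if `t` is central in `G`. -/
theorem strongly_closed' (h : TG2 (P : Subgroup G) m v r s)
    (hZ : ∀ g : G, g * v (half m) (half m) = v (half m) (half m) * g) {x g : G} (hx : x ∈ h.Q2)
    (hg : g * x * g⁻¹ ∈ (P : Subgroup G)) : g * x * g⁻¹ ∈ h.Q2 :=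
  strongly_closed h.symm (by intro g; simpa [h.neg_half] using hZ g) hx hg

end

end Cfsg.Agent.SylowG2.Closed
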