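import Mathlib
import Cfsg.Agent.Transfer.SL23Recog
import Cfsg.Agent.Transfer.SL23Section
import Cfsg.Agent.Transfer.QuatSylow

/-!
# Recognition of `SL(2,3)`

`mulEquiv_of_quaternion`: a group of order 24 with a normal (or just `g`-invariant) quaternion
subgroup `Q` of order 8 and an element `g` of order 3 normalising but not centralising `Q` is
isomorphic to `SL(2, 3)`.
-/

set_option autoImplicit false

namespace Cfsg.Agent.SylowG2.SLTwoThreeRecog

open Subgroup Cfsg.Agent.Transfer.SL23Recog Cfsg.Agent.Transfer.SL23Section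

theorem mulEquiv_of_odd {X : Type*} [Group X] [Finite X] (hc : Nat.card X = 24)
    (Q : Subgroup X) (e : Nonempty (Q ≃* QuaternionGroup 2)) (g : X)
    (hgQ : g ∈ normalizer (Q : Set X)) (hg : Odd (orderOf g))
    (h : g ∉ centralizer (Q : Set X)) :
    Nonempty (X ≃* Matrix.SpecialLinearGroup (Fin 2) (ZMod 3)) := by
  obtain ⟨c, z, hcz⟩ := Cfsg.Agent.Transfer.QuatSylow.exists_isQuat Q 1 e
  obtain ⟨i, j, t, hr, hi2, ht⟩ := exists_slrel_of_quaternion hcz Q le_rfl g hgQ hg h
  have ht3 : t ^ 3 = 1 := by
    have h1 : orderOf t ∣ 24 := by rw [← hc]; exact orderOf_dvd_natCard t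
    have h2 : orderOf t ∣ 3 := by
      have h3 : (orderOf t).Coprime 8 := by
        have : (8 : ℕ) = 2 ^ 3 := by norm_num
        rw [this]
        exact Nat.Coprime.pow_right 3 (Nat.coprime_two_right.mpr ht)
      exact h3.dvd_of_dvd_mul_left (by simpa using h1)
    exact orderOf_dvd_iff_pow_eq_one.mp h2
  have htne : t ≠ 1 := by
    intro h1
    have h2 := hr.hti
    rw [h1] at h2
    have h3 : i = j := by simpa using h2
    have h4 := hr.hji
    rw [← h3] at h4
    have h5 : i = i⁻¹ := by simpa using h4
    apply hi2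
    rw [sq]
    nth_rewrite 2 [h5]
    exact mul_inv_cancel i
  have hcl : closure ({i, j, t} : Set X) = ⊤ := by
    apply Subgroup.eq_top_of_card_eq
    have hle : closure ({i, j} : Set X) ≤ closure ({i, j, t} : Set X) := by
      apply Subgroup.closure_mono
      intro x hx
      simp only [Set.mem_insert_iff, Set.mem_singleton_iff] at hx ⊢
      tauto
    have h8 : 8 ∣ Nat.card (closure ({i, j, t} : Set X)) := by
      have := Subgroup.card_dvd_of_le hle
      rwa [card_quaternion hr.toQRel hi2] at this
    have h3 : 3 ∣ Nat.card (closure ({i, j, t} : Set X)) := by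
      have h3' : orderOf t = 3 := orderOf_eq_prime ht3 htne
      rw [← h3']
      have htm : t ∈ closure ({i, j, t} : Set X) := subset_closure (by simp)
      have := Subgroup.orderOf_dvd_natCard (closure ({i, j, t} : Set X)) htm
      exact this
    have h24 : 24 ∣ Nat.card (closure ({i, j, t} : Set X)) :=
      Nat.Coprime.mul_dvd_of_dvd_of_dvd (by norm_num) h8 h3
    apply Nat.dvd_antisymm
    · exact Subgroup.card_subgroup_dvd_card _
    · rw [hc]; exact h24
  exact sl23_of_relations hr ht3 hcl hc

theorem mulEquiv_of_quaternion {X : Type*} [Group X] [Finite X] (hc : Nat.card X = 24)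
    (Q : Subgroup X) (hQ : Q.Normal) (e : Nonempty (Q ≃* QuaternionGroup 2)) (g : X)
    (hg : orderOf g = 3) (h : g ∉ centralizer (Q : Set X)) :
    Nonempty (X ≃* Matrix.SpecialLinearGroup (Fin 2) (ZMod 3)) := by
  apply mulEquiv_of_odd hc Q e g _ (by rw [hg]; decide) h
  rw [normalizer_eq_top_iff.mpr hQ]
  exact mem_top _

end Cfsg.Agent.SylowG2.SLTwoThreeRecog
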